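import Cfsg.Agent.Spor.LyK.D0

set_option autoImplicit false
set_option maxRecDepth 100000000
set_option Elab.async false

namespace Cfsg.Agent.Spor.LyK

theorem w1 : PA.isW LyM.A LyM.TT [5, 1, 5, 0, 4, 1, 4, 0] gi = true := by decide +kernel

theorem w3 : PA.isW LyM.A LyM.TT [0, 0, 0, 0] gt = true := by decide +kernel

theorem pr6 : Nat.beq (PA.prod LyM.A [LyM.ia, LyM.gb] LyM.A.one) m5 = true := by decide +kernel

theorem iv9 : band (PA.can LyM.A m8) (Nat.beq (PA.mul LyM.A m5 m8) LyM.A.one) = true := by decide +kernel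

theorem pr12 : Nat.beq (PA.prod LyM.A [m8, LyM.gz, m5] LyM.A.one) m11 = true := by decide +kernel

theorem pr15 : Nat.beq (PA.prod LyM.A [m8, m8, LyM.gz, m5, m5] LyM.A.one) m14 = true := by decide +kernel

theorem iv18 : band (PA.can LyM.A m17) (Nat.beq (PA.mul LyM.A m14 m17) LyM.A.one) = true := by decide +kernel

theorem pr21 : Nat.beq (PA.prod LyM.A [m17, LyM.gd, m14, LyM.gd, m14] LyM.A.one) m20 = true := by decide +kernel

theorem TKok : PA.gensOk LyM.A TK 9 = true := by decide +kernel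

theorem r26 : PA.isW LyM.A TK [10, 5, 2] LyM.A.one = true := by decide +kernel

theorem r27 : PA.isW LyM.A TK [12, 11, 9, 10] LyM.A.one = true := by decide +kernel

theorem r28 : PA.isW LyM.A TK [14, 11, 11, 9, 10, 10] LyM.A.one = true := by decide +kernel

theorem r29 : PA.isW LyM.A TK [16, 15, 1, 15, 1, 14] LyM.A.one = true := by decide +kernel

theorem w30 : PA.isW LyM.A TK [0, 0] gt = true := by decide +kernel

theorem cKord : band (Nat.beq (PA.pw LyM.A gt 2) LyM.A.one) (PA.neq LyM.A gt LyM.A.one) = true := by decide +kernel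

theorem cm31 : allN (fun j => Nat.beq (PA.mul LyM.A (nth LyM.A.one TK (2 * j)) gt) (PA.mul LyM.A gt (nth LyM.A.one TK (2 * j)))) 5 = true := by decide +kernel

theorem ne32 : PA.neq LyM.A (PA.evw LyM.A TK [2, 4, 3, 5] LyM.A.one) LyM.A.one = true := by decide +kernel

theorem r33 : memL cKZL (PA.evw LyM.A TK [10, 5, 2] LyM.A.one) = true := by decide +kernel

theorem r34 : memL cKZL (PA.evw LyM.A TK [12, 11, 9, 10] LyM.A.one) = true := by decide +kernel

theorem r35 : memL cKZL (PA.evw LyM.A TK [14, 11, 11, 9, 10, 10] LyM.A.one) = true := by decide +kernel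

theorem r36 : memL cKZL (PA.evw LyM.A TK [16, 15, 1, 15, 1, 14] LyM.A.one) = true := by decide +kernel

theorem r37 : memL cKZL (PA.evw LyM.A TK [0, 0] LyM.A.one) = true := by decide +kernel

theorem r38 : memL cKZL (PA.evw LyM.A TK [17, 17, 6, 16, 16, 6] LyM.A.one) = true := by decide +kernel

theorem r39 : memL cKZL (PA.evw LyM.A TK [16, 16, 16, 16] LyM.A.one) = true := by decide +kernel

theorem r40 : memL cKZL (PA.evw LyM.A TK [6, 6, 6, 6, 6] LyM.A.one) = true := by decide +kernel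

theorem r41 : memL cKZL (PA.evw LyM.A TK [17, 7, 17, 6, 16, 6, 16, 6, 16, 6] LyM.A.one) = true := by decide +kernel

theorem r42 : memL cKZL (PA.evw LyM.A TK [7, 7, 15, 6, 14] LyM.A.one) = true := by decide +kernel

theorem r43 : memL cKZL (PA.evw LyM.A TK [16, 15, 0, 6, 15, 6, 6, 0, 14] LyM.A.one) = true := by decide +kernel

theorem r44 : memL cKZL (PA.evw LyM.A TK [17, 17, 14, 14] LyM.A.one) = true := by decide +kernel

theorem r45 : memL cKZL (PA.evw LyM.A TK [7, 16, 15, 0, 7, 15, 0, 6, 6, 0, 14] LyM.A.one) = true := by decide +kernel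

theorem r46 : memL cKZL (PA.evw LyM.A TK [7, 7, 17, 6, 6, 17, 7, 16, 6, 0] LyM.A.one) = true := by decide +kernel

theorem r47 : memL cKZL (PA.evw LyM.A TK [15, 15, 12, 12] LyM.A.one) = true := by decide +kernel

theorem r48 : memL cKZL (PA.evw LyM.A TK [7, 7, 13, 6, 12] LyM.A.one) = true := by decide +kernel

theorem r49 : memL cKZL (PA.evw LyM.A TK [15, 0, 15, 0, 15, 13, 0, 6, 13, 6, 6, 0, 12] LyM.A.one) = true := by decide +kernel

theorem r50 : memL cKZL (PA.evw LyM.A TK [0, 15, 0, 13, 0, 14, 0, 12] LyM.A.one) = true := by decide +kernel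

theorem r51 : memL cKZL (PA.evw LyM.A TK [13, 13, 8, 8] LyM.A.one) = true := by decide +kernel

theorem r52 : memL cKZL (PA.evw LyM.A TK [7, 7, 9, 6, 8] LyM.A.one) = true := by decide +kernel

theorem r53 : memL cKZL (PA.evw LyM.A TK [13, 0, 13, 0, 13, 9, 0, 6, 9, 6, 6, 0, 8] LyM.A.one) = true := by decide +kernel

theorem r54 : memL cKZL (PA.evw LyM.A TK [0, 15, 0, 9, 0, 14, 0, 8] LyM.A.one) = true := by decide +kernel

theorem r55 : memL cKZL (PA.evw LyM.A TK [0, 13, 0, 9, 0, 12, 0, 8] LyM.A.one) = true := by decide +kernel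

theorem r56 : memL cKZL (PA.evw LyM.A TK [0, 9, 9, 11, 0, 10] LyM.A.one) = true := by decide +kernel

theorem r57 : memL cKZL (PA.evw LyM.A TK [6, 10, 9, 6, 8, 11] LyM.A.one) = true := by decide +kernel

theorem r58 : memL cKZL (PA.evw LyM.A TK [15, 13, 9, 10, 9, 10, 8, 11] LyM.A.one) = true := by decide +kernel

theorem r59 : memL cKZL (PA.evw LyM.A TK [7, 4, 6, 5] LyM.A.one) = true := by decide +kernel

theorem r60 : memL cKZL (PA.evw LyM.A TK [0, 4, 0, 5] LyM.A.one) = true := by decide +kernel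

theorem r61 : memL cKZL (PA.evw LyM.A TK [9, 11, 4, 9, 4, 8, 5] LyM.A.one) = true := by decide +kernel

theorem r62 : memL cKZL (PA.evw LyM.A TK [9, 0, 9, 0, 8, 4, 9, 0, 8, 0, 8, 5] LyM.A.one) = true := by decide +kernel

theorem r63 : memL cKZL (PA.evw LyM.A TK [9, 11, 9, 11, 9, 10, 8, 11, 4, 9, 0, 7, 3, 4, 2, 6, 0, 8, 5] LyM.A.one) = true := by decide +kernel

theorem w64 : PA.isW LyM.A LyM.TT [2, 0, 3, 0, 3, 3, 1, 3] gt1 = true := by decide +kernel

theorem w66 : PA.isW LyM.A LyM.TT [3, 4, 3, 4, 2, 2] gq1 = true := by decide +kernel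

theorem w68 : PA.isW LyM.A LyM.TT [3, 8, 2] gk1 = true := by decide +kernel

theorem w70 : PA.isW LyM.A LyM.TT [1, 3, 0, 2] gx = true := by decide +kernel

theorem iv73 : band (PA.can LyM.A m72) (Nat.beq (PA.mul LyM.A gq1 m72) LyM.A.one) = true := by decide +kernel

theorem pr76 : Nat.beq (PA.prod LyM.A [LyM.id, gq1, LyM.id, m72, m72, LyM.gd, gq1, LyM.id, gq1, gq1, LyM.gd] LyM.A.one) m75 = true := by decide +kernel

theorem TCok : PA.gensOk LyM.A TC 6 = true := by decide +kernel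

theorem r81 : PA.isW LyM.A TC [8, 4, 4] LyM.A.one = true := by decide +kernel

theorem r82 : PA.isW LyM.A TC [10, 5, 3, 3, 4, 3, 5, 2, 2, 4, 3, 4] LyM.A.one = true := by decide +kernel

theorem w84 : PA.isW LyM.A TC [0, 0, 0, 0, 0, 0, 0, 0] gx = true := by decide +kernel

theorem cCord : band (Nat.beq (PA.pw LyM.A gx 3) LyM.A.one) (PA.neq LyM.A gx LyM.A.one) = true := by decide +kernel

theorem cm85 : allN (fun j => Nat.beq (PA.mul LyM.A (nth LyM.A.one TC (2 * j)) gx) (PA.mul LyM.A gx (nth LyM.A.one TC (2 * j)))) 4 = true := by decide +kernel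

theorem ne86 : PA.neq LyM.A (PA.evw LyM.A TC [0, 2, 1, 3] LyM.A.one) LyM.A.one = true := by decide +kernel

theorem r87 : memL cCZL (PA.evw LyM.A TC [8, 4, 4] LyM.A.one) = true := by decide +kernel

theorem r88 : memL cCZL (PA.evw LyM.A TC [10, 5, 3, 3, 4, 3, 5, 2, 2, 4, 3, 4] LyM.A.one) = true := by decide +kernel

theorem r89 : memL cCZL (PA.evw LyM.A TC [10, 10, 10, 10] LyM.A.one) = true := by decide +kernel

theorem r90 : memL cCZL (PA.evw LyM.A TC [10, 2, 11, 8, 2, 2, 8] LyM.A.one) = true := by decide +kernel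

theorem r91 : memL cCZL (PA.evw LyM.A TC [11, 8, 10, 10, 8, 10, 8] LyM.A.one) = true := by decide +kernel

theorem r92 : memL cCZL (PA.evw LyM.A TC [11, 11, 3, 3, 10, 3, 10, 2] LyM.A.one) = true := by decide +kernel

theorem r93 : memL cCZL (PA.evw LyM.A TC [3, 8, 3, 8, 2, 8, 2, 8] LyM.A.one) = true := by decide +kernel

theorem r94 : memL cCZL (PA.evw LyM.A TC [8, 8] LyM.A.one) = true := by decide +kernel

theorem r95 : memL cCZL (PA.evw LyM.A TC [2, 2, 2, 2, 2] LyM.A.one) = true := by decide +kernel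

theorem r96 : memL cCZL (PA.evw LyM.A TC [11, 5, 2, 4, 3, 4, 3, 5, 2, 2, 4, 4, 2, 4] LyM.A.one) = true := by decide +kernel

theorem r97 : memL cCZL (PA.evw LyM.A TC [2, 9, 2, 2, 5, 2, 4, 2, 2, 5, 2, 2, 4, 2, 4] LyM.A.one) = true := by decide +kernel

theorem r98 : memL cCZL (PA.evw LyM.A TC [3, 5, 2, 4, 3, 5, 2, 4, 3, 5, 2, 4] LyM.A.one) = true := by decide +kernel

theorem r99 : memL cCZL (PA.evw LyM.A TC [7, 7, 0, 0] LyM.A.one) = true := by decide +kernel

theorem r100 : memL cCZL (PA.evw LyM.A TC [5, 0, 5, 0] LyM.A.one) = true := by decide +kernel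

theorem r101 : memL cCZL (PA.evw LyM.A TC [5, 5, 0, 0, 0, 0] LyM.A.one) = true := by decide +kernel

theorem r102 : memL cCZL (PA.evw LyM.A TC [4, 0, 4, 0] LyM.A.one) = true := by decide +kernel

theorem r103 : memL cCZL (PA.evw LyM.A TC [4, 7, 5, 5, 6, 4] LyM.A.one) = true := by decide +kernel

theorem r104 : memL cCZL (PA.evw LyM.A TC [7, 1, 7, 0, 6, 0] LyM.A.one) = true := by decide +kernel

theorem r105 : memL cCZL (PA.evw LyM.A TC [2, 1, 7, 3, 6, 2, 0] LyM.A.one) = true := by decide +kernel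

theorem r106 : memL cCZL (PA.evw LyM.A TC [2, 7, 3, 6, 1, 2, 2, 0] LyM.A.one) = true := by decide +kernel

theorem r107 : memL cCZL (PA.evw LyM.A TC [1, 7, 5, 5, 7, 1] LyM.A.one) = true := by decide +kernel

theorem r108 : memL cCZL (PA.evw LyM.A TC [7, 3, 3, 1, 2, 0, 6, 2] LyM.A.one) = true := by decide +kernel

theorem r109 : memL cCZL (PA.evw LyM.A TC [7, 4, 6, 6, 4, 7] LyM.A.one) = true := by decide +kernel

theorem r110 : memL cCZL (PA.evw LyM.A TC [5, 7, 1, 3, 7, 0, 2, 7, 2, 4, 0] LyM.A.one) = true := by decide +kernel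

theorem r111 : memL cCZL (PA.evw LyM.A TC [7, 3, 1, 6, 3, 1, 6, 3, 0] LyM.A.one) = true := by decide +kernel

theorem r112 : memL cCZL (PA.evw LyM.A TC [5, 3, 6, 0, 2, 2, 6, 0, 2, 6, 4, 0] LyM.A.one) = true := by decide +kernel

theorem r113 : memL cCZL (PA.evw LyM.A TC [5, 2, 1, 3, 7, 3, 7, 3, 4, 0] LyM.A.one) = true := by decide +kernel

theorem r114 : memL cCZL (PA.evw LyM.A TC [5, 2, 0, 3, 6, 2, 6, 0, 0, 2, 4, 0] LyM.A.one) = true := by decide +kernel

theorem r115 : memL cCZL (PA.evw LyM.A TC [2, 5, 3, 4, 3, 3, 4, 2, 2, 5, 3, 0] LyM.A.one) = true := by decide +kernel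

theorem r116 : memL cCZL (PA.evw LyM.A TC [3, 6, 2, 4, 3, 0, 3, 5, 2, 5, 3, 6] LyM.A.one) = true := by decide +kernel

theorem r117 : memL cCZL (PA.evw LyM.A TC [2, 2, 5, 2, 2, 5, 7, 5, 2, 0, 2, 6, 5, 2, 7, 2, 4, 0, 6] LyM.A.one) = true := by decide +kernel

theorem w118 : PA.isW LyM.A LyM.TT [8, 6, 0, 4] g37 = true := by decide +kernel

theorem o37 : band (Nat.beq (PA.pw LyM.A g37 37) LyM.A.one) (PA.neq LyM.A g37 LyM.A.one) = true := by decide +kernel

theorem w120 : PA.isW LyM.A LyM.TT [6, 8, 2, 4, 8] g67 = true := by decide +kernel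

theorem o67 : band (Nat.beq (PA.pw LyM.A g67 67) LyM.A.one) (PA.neq LyM.A g67 LyM.A.one) = true := by decide +kernel

theorem nea : PA.neq LyM.A (PA.evw LyM.A LyM.TT [0] LyM.A.one) LyM.A.one = true := by decide +kernel

theorem dd : Nat.beq (PA.mul LyM.A LyM.gd LyM.gd) gt = true := by decide +kernel

end Cfsg.Agent.Spor.LyK
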