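import Cfsg.Agent.Spor.PX4
import Cfsg.Agent.Spor.LyM.Main
import Cfsg.Agent.Spor.LyR.Main
import Cfsg.Agent.Spor.LyAa.Grp
import Cfsg.Agent.Spor.LyMca.Grp
import Cfsg.Agent.Spor.LyK.C0

set_option autoImplicit false
set_option maxRecDepth 100000000
set_option Elab.async false

namespace Cfsg.Agent.Spor.LyK

instance instCharP : CharP (ZMod 5) LyM.A.p := ZMod.charP 5
theorem hM2 : LyM.X.M gi := (LyM.gens.isW w1).1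
theorem hM4 : LyM.X.M gt := (LyM.gens.isW w3).1
theorem hM7 : LyM.X.M m5 := MRep.M.of_prod (L := [LyM.ia, LyM.gb]) (AllP.cons (LyM.gens 1).1 (AllP.cons (LyM.gens 2).1 (AllP.nil))) pr6
theorem hM10 : LyM.X.M m8 := (MRep.M.inv hM7 iv9).1
theorem hM13 : LyM.X.M m11 := MRep.M.of_prod (L := [m8, LyM.gz, m5]) (AllP.cons hM10 (AllP.cons (LyM.gens 8).1 (AllP.cons hM7 (AllP.nil)))) pr12
theorem hM16 : LyM.X.M m14 := MRep.M.of_prod (L := [m8, m8, LyM.gz, m5, m5]) (AllP.cons hM10 (AllP.cons hM10 (AllP.cons (LyM.gens 8).1 (AllP.cons hM7 (AllP.cons hM7 (AllP.nil)))))) pr15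
theorem hM19 : LyM.X.M m17 := (MRep.M.inv hM16 iv18).1
theorem hM22 : LyM.X.M m20 := MRep.M.of_prod (L := [m17, LyM.gd, m14, LyM.gd, m14]) (AllP.cons hM19 (AllP.cons (LyM.gens 6).1 (AllP.cons hM16 (AllP.cons (LyM.gens 6).1 (AllP.cons hM16 (AllP.nil)))))) pr21
theorem gTK : LyM.X.Gens TK (atm 9 (LyM.X.gen TK)) :=
  MRep.Gens.of_M TKok (MRep.allM (L := [LyM.gd, LyM.ga, LyM.gb, gi, LyM.gz, m5, m11, m14, m20]) (AllP.cons (LyM.gens 6).1 (AllP.cons (LyM.gens 0).1 (AllP.cons (LyM.gens 2).1 (AllP.cons hM2 (AllP.cons (LyM.gens 8).1 (AllP.cons hM7 (AllP.cons hM13 (AllP.cons hM16 (AllP.cons hM22 (AllP.nil)))))))))) rfl)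
theorem memTK : ∀ j < 9, LyM.X.gen TK j ∈ gsub 5 (LyM.X.gen TK) :=
  gTK.mem_defs (DR := [[10, 5, 2], [12, 11, 9, 10], [14, 11, 11, 9, 10, 10], [16, 15, 1, 15, 1, 14]]) (show AllP (fun w => PA.isW LyM.A TK w LyM.A.one = true) [[10, 5, 2], [12, 11, 9, 10], [14, 11, 11, 9, 10, 10], [16, 15, 1, 15, 1, 14]] from AllP.cons r26 (AllP.cons r27 (AllP.cons r28 (AllP.cons r29 (AllP.nil))))) (by decide +kernel)
theorem cK : CExt (gsub 5 (LyM.X.gen TK)) (LyM.X.el gt) 2 LyAa.P :=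
  gTK.cext LyAa.bound (by norm_num) LyAa.cert.pres LyAa.lbP LyAa.simpleP memTK (by norm_num) w30 cKord
    (ZL := cKZL) (by decide +kernel) cm31 (RL0 := [[10, 5, 2], [12, 11, 9, 10], [14, 11, 11, 9, 10, 10], [16, 15, 1, 15, 1, 14], [0, 0], [17, 17, 6, 16, 16, 6], [16, 16, 16, 16], [6, 6, 6, 6, 6], [17, 7, 17, 6, 16, 6, 16, 6, 16, 6], [7, 7, 15, 6, 14], [16, 15, 0, 6, 15, 6, 6, 0, 14], [17, 17, 14, 14], [7, 16, 15, 0, 7, 15, 0, 6, 6, 0, 14], [7, 7, 17, 6, 6, 17, 7, 16, 6, 0], [15, 15, 12, 12], [7, 7, 13, 6, 12], [15, 0, 15, 0, 15, 13, 0, 6, 13, 6, 6, 0, 12], [0, 15, 0, 13, 0, 14, 0, 12], [13, 13, 8, 8], [7, 7, 9, 6, 8], [13, 0, 13, 0, 13, 9, 0, 6, 9, 6, 6, 0, 8], [0, 15, 0, 9, 0, 14, 0, 8], [0, 13, 0, 9, 0, 12, 0, 8], [0, 9, 9, 11, 0, 10], [6, 10, 9, 6, 8, 11], [15, 13, 9, 10, 9, 10, 8, 11], [7, 4, 6, 5], [0, 4, 0, 5], [9,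 11, 4, 9, 4, 8, 5], [9, 0, 9, 0, 8, 4, 9, 0, 8, 0, 8, 5], [9, 11, 9, 11, 9, 10, 8, 11, 4, 9, 0, 7, 3, 4, 2, 6, 0, 8, 5]])
    (WD := [[0], [2], [4], [6], [8], [3, 4], [5, 2, 8, 3, 4], [5, 2, 5, 2, 8, 3, 4, 3, 4], [5, 2, 5, 2, 9, 3, 4, 3, 4, 0, 5, 2, 5, 2, 8, 3, 4, 3, 4, 0, 5, 2, 5, 2, 8, 3, 4, 3, 4]]) (H := [([], 5, true), ([], 6, true), ([], 7, true), ([], 8, true), ([], 9, true), ([], 10, true), ([], 11, true), ([], 12, true), ([], 13, true), ([3, 4], 18, true), ([], 15, true), ([], 16, true), ([], 17, true), ([], 18, true), ([], 19, true), ([], 20, true), ([], 21, true), ([], 22, true), ([], 23, true), ([], 24, true), ([], 25, true), ([], 26, true), ([], 27, true), ([], 28, true), ([], 29, true), ([], 30, true)])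
    (show AllP (fun w => memL cKZL (PA.evw LyM.A TK w LyM.A.one) = true) [[10, 5, 2], [12, 11, 9, 10], [14, 11, 11, 9, 10, 10], [16, 15, 1, 15, 1, 14], [0, 0], [17, 17, 6, 16, 16, 6], [16, 16, 16, 16], [6, 6, 6, 6, 6], [17, 7, 17, 6, 16, 6, 16, 6, 16, 6], [7, 7, 15, 6, 14], [16, 15, 0, 6, 15, 6, 6, 0, 14], [17, 17, 14, 14], [7, 16, 15, 0, 7, 15, 0, 6, 6, 0, 14], [7, 7, 17, 6, 6, 17, 7, 16, 6, 0], [15, 15, 12, 12], [7, 7, 13, 6, 12], [15, 0, 15, 0, 15, 13, 0, 6, 13, 6, 6, 0, 12], [0, 15, 0, 13, 0, 14, 0, 12], [13, 13, 8, 8], [7, 7, 9, 6, 8], [13, 0, 13, 0, 13, 9, 0, 6, 9, 6, 6, 0, 8], [0, 15, 0, 9, 0, 14, 0, 8], [0, 13, 0, 9, 0, 12, 0, 8], [0, 9, 9, 11, 0, 10], [6, 10, 9, 6, 8, 11], [15, 13, 9, 10, 9, 10, 8, 11], [7, 4, 6, 5], [0, 4, 0, 5], [9, 11, 4, 9, 4, 8, 5], [9, 0, 9, 0, 8, 4, 9, 0, 8, 0, 8, 5], [9, 11, 9, 11, 9, 10,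 8, 11, 4, 9, 0, 7, 3, 4, 2, 6, 0, 8, 5]] from AllP.cons r33 (AllP.cons r34 (AllP.cons r35 (AllP.cons r36 (AllP.cons r37 (AllP.cons r38 (AllP.cons r39 (AllP.cons r40 (AllP.cons r41 (AllP.cons r42 (AllP.cons r43 (AllP.cons r44 (AllP.cons r45 (AllP.cons r46 (AllP.cons r47 (AllP.cons r48 (AllP.cons r49 (AllP.cons r50 (AllP.cons r51 (AllP.cons r52 (AllP.cons r53 (AllP.cons r54 (AllP.cons r55 (AllP.cons r56 (AllP.cons r57 (AllP.cons r58 (AllP.cons r59 (AllP.cons r60 (AllP.cons r61 (AllP.cons r62 (AllP.cons r63 (AllP.nil)))))))))))))))))))))))))))))))) (by decide +kernel) (x := 2) (y := 4) (by decide) ne32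
theorem hM65 : LyM.X.M gt1 := (LyM.gens.isW w64).1
theorem hM67 : LyM.X.M gq1 := (LyM.gens.isW w66).1
theorem hM69 : LyM.X.M gk1 := (LyM.gens.isW w68).1
theorem hM71 : LyM.X.M gx := (LyM.gens.isW w70).1
theorem hM74 : LyM.X.M m72 := (MRep.M.inv hM67 iv73).1
theorem hM77 : LyM.X.M m75 := MRep.M.of_prod (L := [LyM.id, gq1, LyM.id, m72, m72, LyM.gd, gq1, LyM.id, gq1, gq1, LyM.gd]) (AllP.cons (LyM.gens 7).1 (AllP.cons hM67 (AllP.cons (LyM.gens 7).1 (AllP.cons hM74 (AllP.cons hM74 (AllP.cons (LyM.gens 6).1 (AllP.cons hM67 (AllP.cons (LyM.gens 7).1 (AllP.cons hM67 (AllP.cons hM67 (AllP.cons (LyM.gens 6).1 (AllP.nil)))))))))))) pr76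
theorem gTC : LyM.X.Gens TC (atm 6 (LyM.X.gen TC)) :=
  MRep.Gens.of_M TCok (MRep.allM (L := [gt1, gq1, LyM.gd, gk1, gt, m75]) (AllP.cons hM65 (AllP.cons hM67 (AllP.cons (LyM.gens 6).1 (AllP.cons hM69 (AllP.cons hM4 (AllP.cons hM77 (AllP.nil))))))) rfl)
theorem memTC : ∀ j < 6, LyM.X.gen TC j ∈ gsub 4 (LyM.X.gen TC) :=
  gTC.mem_defs (DR := [[8, 4, 4], [10, 5, 3, 3, 4, 3, 5, 2, 2, 4, 3, 4]]) (show AllP (fun w => PA.isW LyM.A TC w LyM.A.one = true) [[8, 4, 4], [10, 5, 3, 3, 4, 3, 5, 2, 2, 4, 3, 4]] from AllP.cons r81 (AllP.cons r82 (AllP.nil))) (by decide +kernel)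
theorem cC : CExt (gsub 4 (LyM.X.gen TC)) (LyM.X.el gx) 3 LyMca.P :=
  gTC.cext LyMca.bound (by norm_num) LyMca.cert.pres LyMca.lbP LyMca.simpleP memTC (by norm_num) w84 cCord
    (ZL := cCZL) (by decide +kernel) cm85 (RL0 := [[8, 4, 4], [10, 5, 3, 3, 4, 3, 5, 2, 2, 4, 3, 4], [10, 10, 10, 10], [10, 2, 11, 8, 2, 2, 8], [11, 8, 10, 10, 8, 10, 8], [11, 11, 3, 3, 10, 3, 10, 2], [3, 8, 3, 8, 2, 8, 2, 8], [8, 8], [2, 2, 2, 2, 2], [11, 5, 2, 4, 3, 4, 3, 5, 2, 2, 4, 4, 2, 4], [2, 9, 2, 2, 5, 2, 4, 2, 2, 5, 2, 2, 4, 2, 4], [3, 5, 2, 4, 3, 5, 2, 4, 3, 5, 2, 4], [7, 7, 0, 0], [5, 0, 5, 0], [5, 5, 0, 0, 0, 0], [4, 0, 4, 0], [4, 7, 5, 5, 6, 4], [7, 1, 7, 0, 6, 0], [2, 1, 7, 3, 6, 2, 0], [2, 7, 3, 6, 1, 2, 2, 0], [1, 7, 5, 5, 7, 1], [7, 3, 3, 1, 2, 0, 6, 2], [7, 4, 6, 6, 4, 7], [5, 7, 1, 3, 7, 0, 2, 7, 2, 4, 0], [7, 3, 1, 6, 3, 1, 6,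 3, 0], [5, 3, 6, 0, 2, 2, 6, 0, 2, 6, 4, 0], [5, 2, 1, 3, 7, 3, 7, 3, 4, 0], [5, 2, 0, 3, 6, 2, 6, 0, 0, 2, 4, 0], [2, 5, 3, 4, 3, 3, 4, 2, 2, 5, 3, 0], [3, 6, 2, 4, 3, 0, 3, 5, 2, 5, 3, 6], [2, 2, 5, 2, 2, 5, 7, 5, 2, 0, 2, 6, 5, 2, 7, 2, 4, 0, 6]])
    (WD := [[0], [2], [4], [6], [5, 5], [5, 2, 5, 3, 3, 4, 2, 5, 2, 2, 4]]) (H := [([], 2, true), ([], 3, true), ([], 4, true), ([], 5, true), ([], 6, true), ([], 7, true), ([], 8, true), ([], 9, true), ([], 10, true), ([], 11, true), ([], 12, true), ([], 13, true), ([], 14, true), ([], 15, true), ([], 16, true), ([], 17, true), ([], 18, true), ([], 19, true), ([], 20, true), ([], 21, true), ([], 22, true), ([], 23, true), ([], 24, true), ([], 25, true), ([], 26, true), ([], 27, true), ([], 28, true), ([], 29, true), ([], 30, true)])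
    (show AllP (fun w => memL cCZL (PA.evw LyM.A TC w LyM.A.one) = true) [[8, 4, 4], [10, 5, 3, 3, 4, 3, 5, 2, 2, 4, 3, 4], [10, 10, 10, 10], [10, 2, 11, 8, 2, 2, 8], [11, 8, 10, 10, 8, 10, 8], [11, 11, 3, 3, 10, 3, 10, 2], [3, 8, 3, 8, 2, 8, 2, 8], [8, 8], [2, 2, 2, 2, 2], [11, 5, 2, 4, 3, 4, 3, 5, 2, 2, 4, 4, 2, 4], [2, 9, 2, 2, 5, 2, 4, 2, 2, 5, 2, 2, 4, 2, 4], [3, 5, 2, 4, 3, 5, 2, 4, 3, 5, 2, 4], [7, 7, 0, 0], [5, 0, 5, 0], [5, 5, 0, 0, 0, 0], [4, 0, 4, 0], [4, 7, 5, 5, 6, 4], [7, 1, 7, 0, 6, 0], [2, 1, 7, 3, 6, 2, 0], [2, 7, 3, 6, 1, 2, 2, 0], [1, 7, 5, 5, 7, 1], [7, 3, 3, 1, 2, 0, 6, 2], [7, 4, 6, 6, 4, 7], [5, 7, 1, 3, 7, 0, 2, 7, 2, 4, 0], [7, 3, 1, 6, 3, 1, 6, 3, 0], [5, 3, 6, 0, 2, 2, 6, 0, 2, 6, 4, 0], [5, 2, 1, 3, 7, 3, 7, 3, 4, 0], [5, 2, 0, 3, 6, 2, 6, 0, 0, 2, 4, 0], [2, 5, 3, 4, 3, 3, 4, 2, 2, 5, 3, 0],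 [3, 6, 2, 4, 3, 0, 3, 5, 2, 5, 3, 6], [2, 2, 5, 2, 2, 5, 7, 5, 2, 0, 2, 6, 5, 2, 7, 2, 4, 0, 6]] from AllP.cons r87 (AllP.cons r88 (AllP.cons r89 (AllP.cons r90 (AllP.cons r91 (AllP.cons r92 (AllP.cons r93 (AllP.cons r94 (AllP.cons r95 (AllP.cons r96 (AllP.cons r97 (AllP.cons r98 (AllP.cons r99 (AllP.cons r100 (AllP.cons r101 (AllP.cons r102 (AllP.cons r103 (AllP.cons r104 (AllP.cons r105 (AllP.cons r106 (AllP.cons r107 (AllP.cons r108 (AllP.cons r109 (AllP.cons r110 (AllP.cons r111 (AllP.cons r112 (AllP.cons r113 (AllP.cons r114 (AllP.cons r115 (AllP.cons r116 (AllP.cons r117 (AllP.nil)))))))))))))))))))))))))))))))) (by decide +kernel) (x := 0) (y := 2) (by decide) ne86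
theorem eli : LyM.X.el gi = ev (atm 5 LyM.h) [5, 1, 5, 0, 4, 1, 4, 0] := (LyM.gens.isW w1).2
theorem elt : LyM.X.el gt = ev (atm 5 LyM.h) [0, 0, 0, 0] := (LyM.gens.isW w3).2
theorem elx : LyM.X.el gx = ev (atm 5 LyM.h) [1, 3, 0, 2] := (LyM.gens.isW w70).2
theorem elt1 : LyM.X.el gt1 = ev (atm 5 LyM.h) [2, 0, 3, 0, 3, 3, 1, 3] := (LyM.gens.isW w64).2
theorem elq1 : LyM.X.el gq1 = ev (atm 5 LyM.h) [3, 4, 3, 4, 2, 2] := (LyM.gens.isW w66).2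
theorem hM119 : LyM.X.M g37 := (LyM.gens.isW w118).1
theorem ord37 : orderOf (ev (atm 5 LyM.h) [8, 6, 0, 4]) = 37 :=
  (LyM.gens.isW w118).2 ▸ (LyM.gens.isW w118).1.ord (by norm_num) o37
theorem hM121 : LyM.X.M g67 := (LyM.gens.isW w120).1
theorem ord67 : orderOf (ev (atm 5 LyM.h) [6, 8, 2, 4, 8]) = 67 :=
  (LyM.gens.isW w120).2 ▸ (LyM.gens.isW w120).1.ord (by norm_num) o67

instance instFiniteH : Finite LyM.H := (LyR.done LyM.pres).finite (LyR.gtop LyM.pres LyM.top)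

theorem injψ : Function.Injective (LyR.Y LyM.pres).ψ :=
  haveI := Ly3906.simpleP
  inj_of_simple _ (x := ev (atm 4 Ly3906.p) [0]) (by
    rw [ev_atm_map' (LyR.hψ LyM.pres), ← ev_atm_lt (N := 5) (by norm_num) _ (by decide)]
    exact LyM.gens.ne_one nea)

theorem lb : 5859000000 * 8835156 ∣ Nat.card LyM.H := by
  have h1 : 5859000000 ∣ Nat.card LyM.H := Ly3906.cardP ▸ Subgroup.card_dvd_of_injective _ injψ
  have h2 : 2 * 19958400 ∣ Nat.card LyM.H := by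
    rw [← LyAa.cardP, ← cK.card]; exact Subgroup.card_subgroup_dvd_card _
  have h3 : 3 * 898128000 ∣ Nat.card LyM.H := by
    rw [← LyMca.cardP, ← cC.card]; exact Subgroup.card_subgroup_dvd_card _
  have h4 : 37 ∣ Nat.card LyM.H := ord37 ▸ orderOf_dvd_natCard _
  have h5 : 67 ∣ Nat.card LyM.H := ord67 ▸ orderOf_dvd_natCard _
  exact (show _ ∣ Nat.lcm (Nat.lcm (Nat.lcm (Nat.lcm _ _) _) _) _ by decide +kernel).trans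
    (Nat.lcm_dvd (Nat.lcm_dvd (Nat.lcm_dvd (Nat.lcm_dvd h1 h2) h3) h4) h5)

theorem nonsplit : Cfsg.IsNonsplitDoubleCover (gsub 5 (LyM.X.gen TK)) (alternatingGroup (Fin 11)) :=
  cK.nonsplit (mem_gsub _ (show 0 < 5 by norm_num))
    (((gTK 0).1.el_mul (gTK 0).1).symm.trans (congrArg _ (Nat.beq_eq.mp dd))) LyAa.altP

end Cfsg.Agent.Spor.LyK
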